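import Cfsg.Agent.Lib.CosetCert.D.J3.Tbl
import Cfsg.Agent.Lib.CosetCert.D.J3.Lv1.CT

namespace Cfsg.Agent.Lib.CosetCert.D.J3.Lv1.Tab

open Cfsg.Agent.Lib.CosetCert Cfsg.Agent.Lib.TC.Core Cfsg.Agent.Lib.TC.Enc Cfsg.Agent.Lib.TC.Pres Cfsg.Agent.Lib.TC.Perm Cfsg.Agent.Lib.TC.Main

set_option maxRecDepth 100000

open Cfsg.Agent.Lib.CosetCert.D.J3.Tbl

/-- The chunks. -/
noncomputable def ctree : Tr Nat := Cfsg.Agent.Lib.CosetCert.D.J3.Lv1.CT.tree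

/-- The relator rotations. -/
noncomputable def rotT : Tr (List Nat) := (Tr.node (Tr.node (Tr.node (Tr.node (Tr.node (Tr.node (Tr.node (Tr.node (Tr.leaf []) (Tr.leaf [3,2,3,2,3,2,3,2])) (Tr.node (Tr.leaf [1,3,1,2,1,3,1,2,1,3,1,2,1,3,1,2]) (Tr.leaf []))) (Tr.node (Tr.node (Tr.leaf [2,1,2,3,1,2,1,2,3,1,2,1,2,3,1,2,1,2,3,1]) (Tr.leaf [])) (Tr.node (Tr.leaf [3,2,3,2,1,3,2,3,2,1,3,2,3,2,1]) (Tr.leaf [])))) (Tr.node (Tr.node (Tr.node (Tr.leaf [3,2,1,0,1,3,2,1,0,1,3,2,1,0,1,3,2,1,0,1,3,2,1,0,1]) (Tr.leaf [0,0,0,0])) (Tr.node (Tr.leaf [0,2,0,1,2,0,2,0,1,2,0,2,0,1,2]) (Tr.leaf []))) (Tr.node (Tr.node (Tr.leaf [1,2,1,0,1,2,1,0,1,2,1,0,1,2,1,0]) (Tr.leaf [])) (Tr.node (Tr.leaf [3,1,3,1,3,1,3,1]) (Tr.leaf []))))) (Tr.node (Tr.node (Tr.node (Tr.node (Tr.leaf [1,2,0,1,3,1,2,0,1,3,1,2,0,1,3,1,2,0,1,3,1,2,0,1,3])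 (Tr.leaf [2,0,1,3,2,0,1,3])) (Tr.node (Tr.leaf [0,1,2,0,2,0,1,2,0,2,0,1,2,0,2]) (Tr.leaf []))) (Tr.node (Tr.node (Tr.leaf [2,1,0,2,1,0,2,1,0,2,1,0,2,1,0,2,1,0]) (Tr.leaf [])) (Tr.node (Tr.leaf [1,0,1,0,1,0,1,0]) (Tr.leaf [])))) (Tr.node (Tr.node (Tr.node (Tr.leaf [1,3,2,1,0,1,3,2,1,0,1,3,2,1,0,1,3,2,1,0,1,3,2,1,0]) (Tr.leaf [2,2])) (Tr.node (Tr.leaf [3,2,1,3,2,3,2,1,3,2,3,2,1,3,2]) (Tr.leaf []))) (Tr.node (Tr.node (Tr.leaf [2,1,0,1,2,1,0,1,2,1,0,1,2,1,0,1]) (Tr.leaf [])) (Tr.node (Tr.leaf [2,0,2,0,2,0,2,0]) (Tr.leaf [])))))) (Tr.node (Tr.node (Tr.node (Tr.node (Tr.node (Tr.leaf [1,2,0,1,3,1,2,0,1,3,1,2,0,1,3,1,2,0,1,3,1,2,0,1,3]) (Tr.leaf [2,0,1,3,2,0,1,3])) (Tr.node (Tr.leaf [1,2,0,2,0,1,2,0,2,0,1,2,0,2,0]) (Tr.leaf []))) (Tr.node (Tr.node (Tr.leaf [1,2,1,2,3,1,2,1,2,3,1,2,1,2,3,1,2,1,2,3])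 (Tr.leaf [])) (Tr.node (Tr.leaf [1,0,1,0,1,0,1,0]) (Tr.leaf [])))) (Tr.node (Tr.node (Tr.node (Tr.leaf [1,0,1,3,2,1,0,1,3,2,1,0,1,3,2,1,0,1,3,2,1,0,1,3,2]) (Tr.leaf [3,3,3,3])) (Tr.node (Tr.leaf [2,1,3,2,3,2,1,3,2,3,2,1,3,2,3]) (Tr.leaf []))) (Tr.node (Tr.node (Tr.leaf [2,1,0,1,2,1,0,1,2,1,0,1,2,1,0,1]) (Tr.leaf [])) (Tr.node (Tr.leaf [2,0,2,0,2,0,2,0]) (Tr.leaf []))))) (Tr.node (Tr.node (Tr.node (Tr.node (Tr.leaf [2,1,0,1,3,2,1,0,1,3,2,1,0,1,3,2,1,0,1,3,2,1,0,1,3]) (Tr.leaf [0,1,3,2,0,1,3,2])) (Tr.node (Tr.leaf [2,0,1,2,0,2,0,1,2,0,2,0,1,2,0]) (Tr.leaf []))) (Tr.node (Tr.node (Tr.leaf [3,1,2,3,1,2,3,1,2,3,1,2,3,1,2,3,1,2]) (Tr.leaf [])) (Tr.node (Tr.leaf [3,1,3,1,3,1,3,1]) (Tr.leaf [])))) (Tr.node (Tr.node (Tr.node (Tr.leaf [2,1,0,2,1,2,1,0,2,1,2,1,0,2,1,2,1,0,2,1])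 (Tr.leaf [])) (Tr.node (Tr.leaf [2,3,2,1,3,2,3,2,1,3,2,3,2,1,3]) (Tr.leaf []))) (Tr.node (Tr.node (Tr.leaf [1,3,1,2,1,3,1,2,1,3,1,2,1,3,1,2]) (Tr.leaf [])) (Tr.node (Tr.leaf [3,2,3,2,3,2,3,2]) (Tr.leaf []))))))) (Tr.node (Tr.node (Tr.node (Tr.node (Tr.node (Tr.node (Tr.leaf [1,3,1,2,0,1,3,1,2,0,1,3,1,2,0,1,3,1,2,0,1,3,1,2,0]) (Tr.leaf [1,3,2,0,1,3,2,0])) (Tr.node (Tr.leaf [3,1,2,1,3,1,2,1,3,1,2,1,3,1,2,1]) (Tr.leaf []))) (Tr.node (Tr.node (Tr.leaf [2,3,1,2,1,2,3,1,2,1,2,3,1,2,1,2,3,1,2,1]) (Tr.leaf [])) (Tr.node (Tr.leaf [1,0,1,0,1,0,1,0]) (Tr.leaf [])))) (Tr.node (Tr.node (Tr.node (Tr.leaf [1,3,2,1,0,1,3,2,1,0,1,3,2,1,0,1,3,2,1,0,1,3,2,1,0]) (Tr.leaf [0,0,0,0])) (Tr.node (Tr.leaf [2,3,2,1,3,2,3,2,1,3,2,3,2,1,3]) (Tr.leaf []))) (Tr.node (Tr.node (Tr.leaf [1,0,1,2,1,0,1,2,1,0,1,2,1,0,1,2])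 (Tr.leaf [])) (Tr.node (Tr.leaf [2,0,2,0,2,0,2,0]) (Tr.leaf []))))) (Tr.node (Tr.node (Tr.node (Tr.node (Tr.leaf [2,0,1,3,1,2,0,1,3,1,2,0,1,3,1,2,0,1,3,1,2,0,1,3,1]) (Tr.leaf [0,1,3,2,0,1,3,2])) (Tr.node (Tr.leaf [2,0,2,0,1,2,0,2,0,1,2,0,2,0,1]) (Tr.leaf []))) (Tr.node (Tr.node (Tr.leaf [0,2,1,0,2,1,0,2,1,0,2,1,0,2,1,0,2,1]) (Tr.leaf [])) (Tr.node (Tr.leaf [3,1,3,1,3,1,3,1]) (Tr.leaf [])))) (Tr.node (Tr.node (Tr.node (Tr.leaf [2,1,2,1,0,2,1,2,1,0,2,1,2,1,0,2,1,2,1,0]) (Tr.leaf [])) (Tr.node (Tr.leaf [1,3,2,3,2,1,3,2,3,2,1,3,2,3,2]) (Tr.leaf []))) (Tr.node (Tr.node (Tr.leaf [1,2,1,3,1,2,1,3,1,2,1,3,1,2,1,3]) (Tr.leaf [])) (Tr.node (Tr.leaf [3,2,3,2,3,2,3,2]) (Tr.leaf [])))))) (Tr.node (Tr.node (Tr.node (Tr.node (Tr.node (Tr.leaf [0,1,3,1,2,0,1,3,1,2,0,1,3,1,2,0,1,3,1,2,0,1,3,1,2])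 (Tr.leaf [1,3,2,0,1,3,2,0])) (Tr.node (Tr.leaf [0,2,0,1,2,0,2,0,1,2,0,2,0,1,2]) (Tr.leaf []))) (Tr.node (Tr.node (Tr.leaf [2,3,1,2,1,2,3,1,2,1,2,3,1,2,1,2,3,1,2,1]) (Tr.leaf [])) (Tr.node (Tr.leaf [1,0,1,0,1,0,1,0]) (Tr.leaf [])))) (Tr.node (Tr.node (Tr.node (Tr.leaf [3,2,1,0,1,3,2,1,0,1,3,2,1,0,1,3,2,1,0,1,3,2,1,0,1]) (Tr.leaf [0,3])) (Tr.node (Tr.leaf [3,2,3,2,1,3,2,3,2,1,3,2,3,2,1]) (Tr.leaf []))) (Tr.node (Tr.node (Tr.leaf [2,1,0,1,2,1,0,1,2,1,0,1,2,1,0,1]) (Tr.leaf [])) (Tr.node (Tr.leaf [2,0,2,0,2,0,2,0]) (Tr.leaf []))))) (Tr.node (Tr.node (Tr.node (Tr.node (Tr.leaf [0,1,3,2,1,0,1,3,2,1,0,1,3,2,1,0,1,3,2,1,0,1,3,2,1]) (Tr.leaf [3,2,0,1,3,2,0,1])) (Tr.node (Tr.leaf [1,2,0,2,0,1,2,0,2,0,1,2,0,2,0]) (Tr.leaf []))) (Tr.node (Tr.node (Tr.leaf [2,3,1,2,3,1,2,3,1,2,3,1,2,3,1,2,3,1])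 (Tr.leaf [])) (Tr.node (Tr.leaf [3,1,3,1,3,1,3,1]) (Tr.leaf [])))) (Tr.node (Tr.node (Tr.node (Tr.leaf [0,2,1,2,1,0,2,1,2,1,0,2,1,2,1,0,2,1,2,1]) (Tr.leaf [])) (Tr.node (Tr.leaf [2,1,3,2,3,2,1,3,2,3,2,1,3,2,3]) (Tr.leaf []))) (Tr.node (Tr.node (Tr.leaf [1,2,1,3,1,2,1,3,1,2,1,3,1,2,1,3]) (Tr.leaf [])) (Tr.node (Tr.leaf [3,2,3,2,3,2,3,2]) (Tr.leaf [])))))))) (Tr.node (Tr.node (Tr.node (Tr.node (Tr.node (Tr.node (Tr.node (Tr.leaf [0,1,3,1,2,0,1,3,1,2,0,1,3,1,2,0,1,3,1,2,0,1,3,1,2]) (Tr.leaf [0,1,3,2,0,1,3,2])) (Tr.node (Tr.leaf [2,1,3,1,2,1,3,1,2,1,3,1,2,1,3,1]) (Tr.leaf []))) (Tr.node (Tr.node (Tr.leaf [1,2,3,1,2,1,2,3,1,2,1,2,3,1,2,1,2,3,1,2]) (Tr.leaf [])) (Tr.node (Tr.leaf [0,1,0,1,0,1,0,1]) (Tr.leaf [])))) (Tr.node (Tr.node (Tr.node (Tr.leaf [2,1,0,1,3,2,1,0,1,3,2,1,0,1,3,2,1,0,1,3,2,1,0,1,3])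 (Tr.leaf [0,0,0,0])) (Tr.node (Tr.leaf [2,0,1,2,0,2,0,1,2,0,2,0,1,2,0]) (Tr.leaf []))) (Tr.node (Tr.node (Tr.leaf [2,1,0,1,2,1,0,1,2,1,0,1,2,1,0,1]) (Tr.leaf [])) (Tr.node (Tr.leaf [0,2,0,2,0,2,0,2]) (Tr.leaf []))))) (Tr.node (Tr.node (Tr.node (Tr.node (Tr.leaf [1,3,1,2,0,1,3,1,2,0,1,3,1,2,0,1,3,1,2,0,1,3,1,2,0]) (Tr.leaf [2,0,1,3,2,0,1,3])) (Tr.node (Tr.leaf [1,2,0,2,0,1,2,0,2,0,1,2,0,2,0]) (Tr.leaf []))) (Tr.node (Tr.node (Tr.leaf [1,0,2,1,0,2,1,0,2,1,0,2,1,0,2,1,0,2]) (Tr.leaf [])) (Tr.node (Tr.leaf [1,3,1,3,1,3,1,3]) (Tr.leaf [])))) (Tr.node (Tr.node (Tr.node (Tr.leaf [3,2,1,0,1,3,2,1,0,1,3,2,1,0,1,3,2,1,0,1,3,2,1,0,1]) (Tr.leaf [3,0])) (Tr.node (Tr.leaf [2,1,3,2,3,2,1,3,2,3,2,1,3,2,3]) (Tr.leaf []))) (Tr.node (Tr.node (Tr.leaf [1,0,1,2,1,0,1,2,1,0,1,2,1,0,1,2])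 (Tr.leaf [])) (Tr.node (Tr.leaf [2,3,2,3,2,3,2,3]) (Tr.leaf [])))))) (Tr.node (Tr.node (Tr.node (Tr.node (Tr.node (Tr.leaf [2,0,1,3,1,2,0,1,3,1,2,0,1,3,1,2,0,1,3,1,2,0,1,3,1]) (Tr.leaf [0,1,3,2,0,1,3,2])) (Tr.node (Tr.leaf [2,0,2,0,1,2,0,2,0,1,2,0,2,0,1]) (Tr.leaf []))) (Tr.node (Tr.node (Tr.leaf [2,1,2,3,1,2,1,2,3,1,2,1,2,3,1,2,1,2,3,1]) (Tr.leaf [])) (Tr.node (Tr.leaf [0,1,0,1,0,1,0,1]) (Tr.leaf [])))) (Tr.node (Tr.node (Tr.node (Tr.leaf [1,3,2,1,0,1,3,2,1,0,1,3,2,1,0,1,3,2,1,0,1,3,2,1,0]) (Tr.leaf [3,3,3,3])) (Tr.node (Tr.leaf [1,3,2,3,2,1,3,2,3,2,1,3,2,3,2]) (Tr.leaf []))) (Tr.node (Tr.node (Tr.leaf [1,0,1,2,1,0,1,2,1,0,1,2,1,0,1,2]) (Tr.leaf [])) (Tr.node (Tr.leaf [0,2,0,2,0,2,0,2]) (Tr.leaf []))))) (Tr.node (Tr.node (Tr.node (Tr.node (Tr.leaf [1,0,1,3,2,1,0,1,3,2,1,0,1,3,2,1,0,1,3,2,1,0,1,3,2])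 (Tr.leaf [1,3,2,0,1,3,2,0])) (Tr.node (Tr.leaf [0,1,2,0,2,0,1,2,0,2,0,1,2,0,2]) (Tr.leaf []))) (Tr.node (Tr.node (Tr.leaf [1,2,3,1,2,3,1,2,3,1,2,3,1,2,3,1,2,3]) (Tr.leaf [])) (Tr.node (Tr.leaf [1,3,1,3,1,3,1,3]) (Tr.leaf [])))) (Tr.node (Tr.node (Tr.node (Tr.leaf [1,0,2,1,2,1,0,2,1,2,1,0,2,1,2,1,0,2,1,2]) (Tr.leaf [])) (Tr.node (Tr.leaf [3,2,1,3,2,3,2,1,3,2,3,2,1,3,2]) (Tr.leaf []))) (Tr.node (Tr.node (Tr.leaf [3,1,2,1,3,1,2,1,3,1,2,1,3,1,2,1]) (Tr.leaf [])) (Tr.node (Tr.leaf [2,3,2,3,2,3,2,3]) (Tr.leaf []))))))) (Tr.node (Tr.node (Tr.node (Tr.node (Tr.node (Tr.node (Tr.leaf [3,1,2,0,1,3,1,2,0,1,3,1,2,0,1,3,1,2,0,1,3,1,2,0,1]) (Tr.leaf [3,2,0,1,3,2,0,1])) (Tr.node (Tr.leaf [0,1,2,0,2,0,1,2,0,2,0,1,2,0,2]) (Tr.leaf []))) (Tr.node (Tr.node (Tr.leaf [3,1,2,1,2,3,1,2,1,2,3,1,2,1,2,3,1,2,1,2])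 (Tr.leaf [])) (Tr.node (Tr.leaf [0,1,0,1,0,1,0,1]) (Tr.leaf [])))) (Tr.node (Tr.node (Tr.node (Tr.leaf [2,1,0,1,3,2,1,0,1,3,2,1,0,1,3,2,1,0,1,3,2,1,0,1,3]) (Tr.leaf [3,3,3,3])) (Tr.node (Tr.leaf [3,2,1,3,2,3,2,1,3,2,3,2,1,3,2]) (Tr.leaf []))) (Tr.node (Tr.node (Tr.leaf [0,1,2,1,0,1,2,1,0,1,2,1,0,1,2,1]) (Tr.leaf [])) (Tr.node (Tr.leaf [0,2,0,2,0,2,0,2]) (Tr.leaf []))))) (Tr.node (Tr.node (Tr.node (Tr.node (Tr.leaf [2,0,1,3,1,2,0,1,3,1,2,0,1,3,1,2,0,1,3,1,2,0,1,3,1]) (Tr.leaf [2,0,1,3,2,0,1,3])) (Tr.node (Tr.leaf [0,2,0,1,2,0,2,0,1,2,0,2,0,1,2]) (Tr.leaf []))) (Tr.node (Tr.node (Tr.leaf [2,3,1,2,3,1,2,3,1,2,3,1,2,3,1,2,3,1]) (Tr.leaf [])) (Tr.node (Tr.leaf [1,3,1,3,1,3,1,3]) (Tr.leaf [])))) (Tr.node (Tr.node (Tr.node (Tr.leaf [1,2,1,0,2,1,2,1,0,2,1,2,1,0,2,1,2,1,0,2])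 (Tr.leaf [])) (Tr.node (Tr.leaf [3,2,3,2,1,3,2,3,2,1,3,2,3,2,1]) (Tr.leaf []))) (Tr.node (Tr.node (Tr.leaf [2,1,3,1,2,1,3,1,2,1,3,1,2,1,3,1]) (Tr.leaf [])) (Tr.node (Tr.leaf [2,3,2,3,2,3,2,3]) (Tr.leaf [])))))) (Tr.node (Tr.node (Tr.node (Tr.node (Tr.node (Tr.leaf [3,1,2,0,1,3,1,2,0,1,3,1,2,0,1,3,1,2,0,1,3,1,2,0,1]) (Tr.leaf [3,2,0,1,3,2,0,1])) (Tr.node (Tr.leaf [2,0,1,2,0,2,0,1,2,0,2,0,1,2,0]) (Tr.leaf []))) (Tr.node (Tr.node (Tr.leaf [1,2,3,1,2,1,2,3,1,2,1,2,3,1,2,1,2,3,1,2]) (Tr.leaf [])) (Tr.node (Tr.leaf [0,1,0,1,0,1,0,1]) (Tr.leaf [])))) (Tr.node (Tr.node (Tr.node (Tr.leaf [2,1,0,1,3,2,1,0,1,3,2,1,0,1,3,2,1,0,1,3,2,1,0,1,3]) (Tr.leaf [1,1])) (Tr.node (Tr.leaf [2,3,2,1,3,2,3,2,1,3,2,3,2,1,3]) (Tr.leaf []))) (Tr.node (Tr.node (Tr.leaf [1,0,1,2,1,0,1,2,1,0,1,2,1,0,1,2])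 (Tr.leaf [])) (Tr.node (Tr.leaf [0,2,0,2,0,2,0,2]) (Tr.leaf []))))) (Tr.node (Tr.node (Tr.node (Tr.node (Tr.leaf [1,3,2,1,0,1,3,2,1,0,1,3,2,1,0,1,3,2,1,0,1,3,2,1,0]) (Tr.leaf [0,0,0,0])) (Tr.node (Tr.leaf [2,0,2,0,1,2,0,2,0,1,2,0,2,0,1]) (Tr.leaf []))) (Tr.node (Tr.node (Tr.leaf [2,3,1,2,3,1,2,3,1,2,3,1,2,3,1,2,3,1]) (Tr.leaf [])) (Tr.node (Tr.leaf [1,3,1,3,1,3,1,3]) (Tr.leaf [])))) (Tr.node (Tr.node (Tr.node (Tr.leaf [1,0,2,1,2,1,0,2,1,2,1,0,2,1,2,1,0,2,1,2]) (Tr.leaf [])) (Tr.node (Tr.leaf [1,3,2,3,2,1,3,2,3,2,1,3,2,3,2]) (Tr.leaf []))) (Tr.node (Tr.node (Tr.leaf [2,1,3,1,2,1,3,1,2,1,3,1,2,1,3,1]) (Tr.leaf [])) (Tr.node (Tr.leaf [2,3,2,3,2,3,2,3]) (Tr.leaf [])))))))))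

/-- The witnesses of the rotations. -/
noncomputable def witT : Tr (Nat × Nat × Bool) := (Tr.node (Tr.node (Tr.node (Tr.node (Tr.node (Tr.node (Tr.node (Tr.node (Tr.leaf (0,0,false)) (Tr.leaf (6,7,true))) (Tr.node (Tr.leaf (3,10,true)) (Tr.leaf (0,0,false)))) (Tr.node (Tr.node (Tr.leaf (1,1,true)) (Tr.leaf (0,0,false))) (Tr.node (Tr.leaf (4,14,true)) (Tr.leaf (0,0,false))))) (Tr.node (Tr.node (Tr.node (Tr.leaf (0,4,true)) (Tr.leaf (8,1,false))) (Tr.node (Tr.leaf (4,13,false)) (Tr.leaf (0,0,false)))) (Tr.node (Tr.node (Tr.leaf (3,1,false)) (Tr.leaf (0,0,false))) (Tr.node (Tr.leaf (5,7,true)) (Tr.leaf (0,0,false)))))) (Tr.node (Tr.node (Tr.node (Tr.node (Tr.leaf (0,8,false)) (Tr.leaf (7,7,false))) (Tr.node (Tr.leaf (4,5,false)) (Tr.leaf (0,0,false)))) (Tr.node (Tr.node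 (Tr.leaf (2,1,false)) (Tr.leaf (0,0,false))) (Tr.node (Tr.leaf (5,7,false)) (Tr.leaf (0,0,false))))) (Tr.node (Tr.node (Tr.node (Tr.leaf (0,23,true)) (Tr.leaf (9,2,false))) (Tr.node (Tr.leaf (4,6,true)) (Tr.leaf (0,0,false)))) (Tr.node (Tr.node (Tr.leaf (3,14,false)) (Tr.leaf (0,0,false))) (Tr.node (Tr.leaf (6,7,false)) (Tr.leaf (0,0,false))))))) (Tr.node (Tr.node (Tr.node (Tr.node (Tr.node (Tr.leaf (0,3,false)) (Tr.leaf (7,3,false))) (Tr.node (Tr.leaf (4,1,false)) (Tr.leaf (0,0,false)))) (Tr.node (Tr.node (Tr.leaf (1,5,true)) (Tr.leaf (0,0,false))) (Tr.node (Tr.leaf (5,3,false)) (Tr.leaf (0,0,false))))) (Tr.node (Tr.node (Tr.node (Tr.leaf (0,11,true)) (Tr.leaf (8,2,true))) (Tr.node (Tr.leaf (4,2,true)) (Tr.leaf (0,0,false)))) (Tr.node (Tr.node (Tr.leaf (3,6,false))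 (Tr.leaf (0,0,false))) (Tr.node (Tr.leaf (6,3,false)) (Tr.leaf (0,0,false)))))) (Tr.node (Tr.node (Tr.node (Tr.node (Tr.leaf (0,0,true)) (Tr.leaf (7,5,true))) (Tr.node (Tr.leaf (4,9,false)) (Tr.leaf (0,0,false)))) (Tr.node (Tr.node (Tr.leaf (2,2,true)) (Tr.leaf (0,0,false))) (Tr.node (Tr.leaf (5,3,true)) (Tr.leaf (0,0,false))))) (Tr.node (Tr.node (Tr.node (Tr.leaf (1,3,false)) (Tr.leaf (0,0,false))) (Tr.node (Tr.leaf (4,10,true)) (Tr.leaf (0,0,false)))) (Tr.node (Tr.node (Tr.leaf (3,2,true)) (Tr.leaf (0,0,false))) (Tr.node (Tr.leaf (6,3,true)) (Tr.leaf (0,0,false)))))))) (Tr.node (Tr.node (Tr.node (Tr.node (Tr.node (Tr.node (Tr.leaf (0,1,false)) (Tr.leaf (7,1,false))) (Tr.node (Tr.leaf (3,15,true)) (Tr.leaf (0,0,false)))) (Tr.node (Tr.node (Tr.leaf (1,3,true)) (Tr.leaf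 (0,0,false))) (Tr.node (Tr.leaf (5,1,false)) (Tr.leaf (0,0,false))))) (Tr.node (Tr.node (Tr.node (Tr.leaf (0,8,true)) (Tr.leaf (8,3,false))) (Tr.node (Tr.leaf (4,0,true)) (Tr.leaf (0,0,false)))) (Tr.node (Tr.node (Tr.leaf (3,3,false)) (Tr.leaf (0,0,false))) (Tr.node (Tr.leaf (6,1,false)) (Tr.leaf (0,0,false)))))) (Tr.node (Tr.node (Tr.node (Tr.node (Tr.leaf (0,14,false)) (Tr.leaf (7,1,true))) (Tr.node (Tr.leaf (4,7,false)) (Tr.leaf (0,0,false)))) (Tr.node (Tr.node (Tr.leaf (2,3,false)) (Tr.leaf (0,0,false))) (Tr.node (Tr.leaf (5,1,true)) (Tr.leaf (0,0,false))))) (Tr.node (Tr.node (Tr.node (Tr.leaf (1,1,false)) (Tr.leaf (0,0,false))) (Tr.node (Tr.leaf (4,8,true)) (Tr.leaf (0,0,false)))) (Tr.node (Tr.node (Tr.leaf (3,0,true)) (Tr.leaf (0,0,false))) (Tr.node (Tr.leaf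 (6,1,true)) (Tr.leaf (0,0,false))))))) (Tr.node (Tr.node (Tr.node (Tr.node (Tr.node (Tr.leaf (0,5,false)) (Tr.leaf (7,5,false))) (Tr.node (Tr.leaf (4,3,false)) (Tr.leaf (0,0,false)))) (Tr.node (Tr.node (Tr.leaf (1,8,true)) (Tr.leaf (0,0,false))) (Tr.node (Tr.leaf (5,5,false)) (Tr.leaf (0,0,false))))) (Tr.node (Tr.node (Tr.node (Tr.leaf (0,14,true)) (Tr.leaf (9,0,false))) (Tr.node (Tr.leaf (4,4,true)) (Tr.leaf (0,0,false)))) (Tr.node (Tr.node (Tr.leaf (3,10,false)) (Tr.leaf (0,0,false))) (Tr.node (Tr.leaf (6,5,false)) (Tr.leaf (0,0,false)))))) (Tr.node (Tr.node (Tr.node (Tr.node (Tr.leaf (0,2,true)) (Tr.leaf (7,7,true))) (Tr.node (Tr.leaf (4,11,false)) (Tr.leaf (0,0,false)))) (Tr.node (Tr.node (Tr.leaf (2,4,true)) (Tr.leaf (0,0,false))) (Tr.node (Tr.leaf (5,5,true))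 (Tr.leaf (0,0,false))))) (Tr.node (Tr.node (Tr.node (Tr.leaf (1,5,false)) (Tr.leaf (0,0,false))) (Tr.node (Tr.leaf (4,12,true)) (Tr.leaf (0,0,false)))) (Tr.node (Tr.node (Tr.leaf (3,4,true)) (Tr.leaf (0,0,false))) (Tr.node (Tr.leaf (6,5,true)) (Tr.leaf (0,0,false))))))))) (Tr.node (Tr.node (Tr.node (Tr.node (Tr.node (Tr.node (Tr.node (Tr.leaf (0,0,false)) (Tr.leaf (7,0,false))) (Tr.node (Tr.leaf (3,13,true)) (Tr.leaf (0,0,false)))) (Tr.node (Tr.node (Tr.leaf (1,2,true)) (Tr.leaf (0,0,false))) (Tr.node (Tr.leaf (5,0,false)) (Tr.leaf (0,0,false))))) (Tr.node (Tr.node (Tr.node (Tr.leaf (0,5,true)) (Tr.leaf (8,2,false))) (Tr.node (Tr.leaf (4,14,false)) (Tr.leaf (0,0,false)))) (Tr.node (Tr.node (Tr.leaf (3,2,false)) (Tr.leaf (0,0,false))) (Tr.node (Tr.leaf (6,0,false))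 (Tr.leaf (0,0,false)))))) (Tr.node (Tr.node (Tr.node (Tr.node (Tr.leaf (0,11,false)) (Tr.leaf (7,0,true))) (Tr.node (Tr.leaf (4,6,false)) (Tr.leaf (0,0,false)))) (Tr.node (Tr.node (Tr.leaf (2,2,false)) (Tr.leaf (0,0,false))) (Tr.node (Tr.leaf (5,0,true)) (Tr.leaf (0,0,false))))) (Tr.node (Tr.node (Tr.node (Tr.leaf (0,24,true)) (Tr.leaf (9,3,false))) (Tr.node (Tr.leaf (4,7,true)) (Tr.leaf (0,0,false)))) (Tr.node (Tr.node (Tr.leaf (3,15,false)) (Tr.leaf (0,0,false))) (Tr.node (Tr.leaf (6,0,true)) (Tr.leaf (0,0,false))))))) (Tr.node (Tr.node (Tr.node (Tr.node (Tr.node (Tr.leaf (0,4,false)) (Tr.leaf (7,4,false))) (Tr.node (Tr.leaf (4,2,false)) (Tr.leaf (0,0,false)))) (Tr.node (Tr.node (Tr.leaf (1,6,true)) (Tr.leaf (0,0,false))) (Tr.node (Tr.leaf (5,4,false)) (Tr.leaf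 (0,0,false))))) (Tr.node (Tr.node (Tr.node (Tr.leaf (0,13,true)) (Tr.leaf (8,3,true))) (Tr.node (Tr.leaf (4,3,true)) (Tr.leaf (0,0,false)))) (Tr.node (Tr.node (Tr.leaf (3,7,false)) (Tr.leaf (0,0,false))) (Tr.node (Tr.leaf (6,4,false)) (Tr.leaf (0,0,false)))))) (Tr.node (Tr.node (Tr.node (Tr.node (Tr.leaf (0,1,true)) (Tr.leaf (7,6,true))) (Tr.node (Tr.leaf (4,10,false)) (Tr.leaf (0,0,false)))) (Tr.node (Tr.node (Tr.leaf (2,3,true)) (Tr.leaf (0,0,false))) (Tr.node (Tr.leaf (5,4,true)) (Tr.leaf (0,0,false))))) (Tr.node (Tr.node (Tr.node (Tr.leaf (1,4,false)) (Tr.leaf (0,0,false))) (Tr.node (Tr.leaf (4,11,true)) (Tr.leaf (0,0,false)))) (Tr.node (Tr.node (Tr.leaf (3,3,true)) (Tr.leaf (0,0,false))) (Tr.node (Tr.leaf (6,4,true)) (Tr.leaf (0,0,false)))))))) (Tr.node (Tr.node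 (Tr.node (Tr.node (Tr.node (Tr.node (Tr.leaf (0,2,false)) (Tr.leaf (7,2,false))) (Tr.node (Tr.leaf (4,0,false)) (Tr.leaf (0,0,false)))) (Tr.node (Tr.node (Tr.leaf (1,4,true)) (Tr.leaf (0,0,false))) (Tr.node (Tr.leaf (5,2,false)) (Tr.leaf (0,0,false))))) (Tr.node (Tr.node (Tr.node (Tr.leaf (0,10,true)) (Tr.leaf (8,1,true))) (Tr.node (Tr.leaf (4,1,true)) (Tr.leaf (0,0,false)))) (Tr.node (Tr.node (Tr.leaf (3,4,false)) (Tr.leaf (0,0,false))) (Tr.node (Tr.leaf (6,2,false)) (Tr.leaf (0,0,false)))))) (Tr.node (Tr.node (Tr.node (Tr.node (Tr.leaf (0,24,false)) (Tr.leaf (7,4,true))) (Tr.node (Tr.leaf (4,8,false)) (Tr.leaf (0,0,false)))) (Tr.node (Tr.node (Tr.leaf (2,1,true)) (Tr.leaf (0,0,false))) (Tr.node (Tr.leaf (5,2,true)) (Tr.leaf (0,0,false))))) (Tr.node (Tr.node (Tr.node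 (Tr.leaf (1,2,false)) (Tr.leaf (0,0,false))) (Tr.node (Tr.leaf (4,9,true)) (Tr.leaf (0,0,false)))) (Tr.node (Tr.node (Tr.leaf (3,1,true)) (Tr.leaf (0,0,false))) (Tr.node (Tr.leaf (6,2,true)) (Tr.leaf (0,0,false))))))) (Tr.node (Tr.node (Tr.node (Tr.node (Tr.node (Tr.leaf (0,7,false)) (Tr.leaf (7,6,false))) (Tr.node (Tr.leaf (4,4,false)) (Tr.leaf (0,0,false)))) (Tr.node (Tr.node (Tr.leaf (1,12,true)) (Tr.leaf (0,0,false))) (Tr.node (Tr.leaf (5,6,false)) (Tr.leaf (0,0,false))))) (Tr.node (Tr.node (Tr.node (Tr.leaf (0,15,true)) (Tr.leaf (9,1,false))) (Tr.node (Tr.leaf (4,5,true)) (Tr.leaf (0,0,false)))) (Tr.node (Tr.node (Tr.leaf (3,11,false)) (Tr.leaf (0,0,false))) (Tr.node (Tr.leaf (6,6,false)) (Tr.leaf (0,0,false)))))) (Tr.node (Tr.node (Tr.node (Tr.node (Tr.leaf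 (0,3,true)) (Tr.leaf (8,0,false))) (Tr.node (Tr.leaf (4,12,false)) (Tr.leaf (0,0,false)))) (Tr.node (Tr.node (Tr.leaf (2,7,true)) (Tr.leaf (0,0,false))) (Tr.node (Tr.leaf (5,6,true)) (Tr.leaf (0,0,false))))) (Tr.node (Tr.node (Tr.node (Tr.leaf (1,19,false)) (Tr.leaf (0,0,false))) (Tr.node (Tr.leaf (4,13,true)) (Tr.leaf (0,0,false)))) (Tr.node (Tr.node (Tr.leaf (3,5,true)) (Tr.leaf (0,0,false))) (Tr.node (Tr.leaf (6,6,true)) (Tr.leaf (0,0,false))))))))))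

/-- The subgroup rotations. -/
noncomputable def srotT : Tr (List Nat × Nat × List Nat) := (Tr.leaf ([1],0,[1]))

/-- The certificate. -/
noncomputable def cert : Cert :=
  mkCert 4 29732 87746 10 154 155 5 31 269 47 188 252 140737488355327 18446744073709551615 17 15 131071 32767 32 30 3 ctree.get rotT.get srotT.get

/-- The relators. -/
def rels : List (List Nat) :=
  [[0,1,3,1,2,0,1,3,1,2,0,1,3,1,2,0,1,3,1,2,0,1,3,1,2],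
   [0,2,1,2,1,0,2,1,2,1,0,2,1,2,1,0,2,1,2,1],
   [0,2,1,0,2,1,0,2,1,0,2,1,0,2,1,0,2,1],
   [0,1,2,1,0,1,2,1,0,1,2,1,0,1,2,1],
   [0,1,2,0,2,0,1,2,0,2,0,1,2,0,2],
   [0,1,0,1,0,1,0,1],
   [0,2,0,2,0,2,0,2],
   [0,1,3,2,0,1,3,2],
   [0,0,0,0]]

/-- The words of the subgroup. -/
def subs : List (List Nat) :=
  [[1,0,1]]

end Cfsg.Agent.Lib.CosetCert.D.J3.Lv1.Tab
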